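import Cfsg.Agent.CurtisRichen82.Chev.Roots

/-!
Words of fundamental reflections acting as torus elements.
-/

set_option autoImplicit false

namespace Cfsg.Agent.CurtisRichen82.Chev

open Cfsg.Lie Cfsg.Agent.ChevCore

variable {D : ChevalleyDatum} {F : Type*} [Field F] (hG : Good D)

include hG

/-- The root whose sign a word changes last. -/
theorem exists_split {j : ℕ} (hj : j < D.rank) : ∀ {v : List ℕ}, (∀ i ∈ v, i < D.rank) →
    ht D (actW D v (D.simple j)) < 0 →
      ∃ a i b, v = a ++ i :: b ∧ actW D b (D.simple j) = D.simple i := by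
  intro v
  induction v with
  | nil =>
    intro _ h
    rw [actW_nil, hG.ht_simple hj] at h
    omega
  | cons i v ih =>
    intro hv h
    have hi : i < D.rank := hv i (by simp)
    have hv' : ∀ k ∈ v, k < D.rank := fun k hk => hv k (by simp [hk])
    have hlt := hG.actW_lt hv' (hG.simple_lt hj)
    by_cases hneg : ht D (actW D v (D.simple j)) < 0
    · obtain ⟨a, k, b, e, hb⟩ := ih hv' hneg
      exact ⟨i :: a, k, b, by rw [e]; rfl, hb⟩
    · refine ⟨[], i, v, rfl, ?_⟩
      by_contra hne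
      rw [actW_cons] at h
      have := hG.refl_pos hi hlt (by have := hG.ht_ne_zero hlt; omega) hne
      omega

variable {K : Set ℕ} {L : Subgroup (GL D.Idx F)}
  (hLd : L ≤ D.diagonalSubgroup F)
  (hLK : ∀ j < D.rank, j ∈ K → ∀ c : Fˣ, hg D F (D.simple j) (c : F) ∈ L)

include hLd hLK

theorem conj_L {j : ℕ} (hj : j < D.rank) (hjK : j ∈ K) {l : GL D.Idx F} (hl : l ∈ L) :
    ng D F (D.simple j) 1 * l * (ng D F (D.simple j) 1)⁻¹ ∈ L := by
  obtain ⟨a, ha⟩ := n_conj_diag hG hj (hLd hl)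
  rw [ha]
  exact mul_mem hl (hLK j hj hjK a)

theorem nw_conj_L : ∀ {v : List ℕ}, (∀ i ∈ v, i < D.rank ∧ i ∈ K) → ∀ {l : GL D.Idx F}, l ∈ L →
    nw D F v * l * (nw D F v)⁻¹ ∈ L := by
  intro v
  induction v with
  | nil => intro _ l hl; simpa [nw] using hl
  | cons j v ih =>
    intro hv l hl
    rw [Good.actW_cons_supp, show ng D F (D.simple j) 1 * nw D F v * l *
      (ng D F (D.simple j) 1 * nw D F v)⁻¹ = ng D F (D.simple j) 1 *
        (nw D F v * l * (nw D F v)⁻¹) * (ng D F (D.simple j) 1)⁻¹ by group]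
    exact conj_L hG hLd hLK (hv j (by simp)).1 (hv j (by simp)).2
      (ih (fun k hk => hv k (by simp [hk])) hl)

/-- A word in `K` that acts as a torus element lies in `L`. -/
theorem nw_mem_L : ∀ (n : ℕ) (w : List ℕ), w.length = n → (∀ i ∈ w, i < D.rank ∧ i ∈ K) →
    nw D F w ∈ D.diagonalSubgroup F → nw D F w ∈ L := by
  intro n
  induction n using Nat.strong_induction_on with
  | _ n ih =>
  intro w hlen hw hd
  rcases List.eq_nil_or_concat w with rfl | ⟨v, j, rfl⟩
  · simp [nw]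
  rw [List.concat_eq_append] at hlen hw hd ⊢
  have hv : ∀ i ∈ v, i < D.rank ∧ i ∈ K := fun i hi => hw i (List.mem_append_left _ hi)
  obtain ⟨hj, hjK⟩ := hw j (List.mem_append_right _ (by simp))
  have hv' : ∀ i ∈ v, i < D.rank := fun i hi => (hv i hi).1
  have hw' : ∀ i ∈ v ++ [j], i < D.rank := fun i hi => (hw i hi).1
  have hp := hG.simple_lt hj
  -- the action fixes the sign of the last root
  have hpos : 0 < ht D (actW D (v ++ [j]) (D.simple j)) := by
    have hlt := hG.actW_lt hw' hp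
    obtain ⟨a, ha⟩ := diag_conj_x hG (F := F) hd hp 1
    rw [hG.nw_conj_x hw' hp] at ha
    have hm : xg D F (D.simple j) ((a : F) * 1) ∈ D.posUnipotent F :=
      (xg_mem_pos_iff hG hp (by simp)).2 (by rw [hG.ht_simple hj]; omega)
    rw [← ha] at hm
    refine (xg_mem_pos_iff hG hlt ?_).1 hm
    rw [mul_one]
    exact left_ne_zero_of_mul_eq_one
      (by rw [← Int.cast_mul, Good.etaWord_sq, Int.cast_one] : ((etaWord D (v ++ [j]) (D.simple j) : ℤ) : F) * (etaWord D (v ++ [j]) (D.simple j) : F) = 1)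
  have hneg : ht D (actW D v (D.simple j)) < 0 := by
    rw [actW_append, actW_cons, actW_nil, hG.refl_simple hj, hG.actW_neg hv' hp,
      hG.ht_neg (hG.actW_lt hv' hp)] at hpos
    omega
  obtain ⟨a, i, b, rfl, hb⟩ := exists_split hG hj hv' hneg
  have hi := hv i (by simp)
  have ha : ∀ k ∈ a, k < D.rank ∧ k ∈ K := fun k hk => hv k (by simp [hk])
  have hb' : ∀ k ∈ b, k < D.rank ∧ k ∈ K := fun k hk => hv k (by simp [hk])
  set e : F := (etaWord D b (D.simple j) : F)
  have he : e ≠ 0 := left_ne_zero_of_mul_eq_one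
    (by rw [← Int.cast_mul, Good.etaWord_sq, Int.cast_one] : e * e = 1)
  have hkey : nw D F b * ng D F (D.simple j) 1 =
      hg D F (D.simple i) e * ng D F (D.simple i) 1 * nw D F b := by
    rw [← hG.ng_eq_hg_mul, ← hb]
    have := hG.nw_conj_ng (F := F) (fun k hk => (hb' k hk).1) hp 1
    rw [mul_one] at this
    rw [← this]
    group
  set l1 := ng D F (D.simple i) 1 * hg D F (D.simple i) e * (ng D F (D.simple i) 1)⁻¹ *
    (hg D F (D.simple i) (-1))⁻¹
  have hl1 : l1 ∈ L := mul_mem (conj_L hG hLd hLK hi.1 hi.2 (hLK i hi.1 hi.2 (Units.mk0 e he)))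
    (inv_mem (hLK i hi.1 hi.2 (-1)) |> fun h => by simpa using h)
  have hmain : nw D F ((a ++ i :: b) ++ [j]) = (nw D F a * l1 * (nw D F a)⁻¹) * nw D F (a ++ b) := by
    calc nw D F ((a ++ i :: b) ++ [j])
        = nw D F a * (ng D F (D.simple i) 1 * (nw D F b * ng D F (D.simple j) 1)) := by
          simp [nw, mul_assoc]
      _ = nw D F a * (ng D F (D.simple i) 1 * (hg D F (D.simple i) e * ng D F (D.simple i) 1 *
            nw D F b)) := by rw [hkey]
      _ = nw D F a * (ng D F (D.simple i) 1 * hg D F (D.simple i) e * (ng D F (D.simple i) 1)⁻¹ *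
            (ng D F (D.simple i) 1 * ng D F (D.simple i) 1)) * nw D F b := by group
      _ = nw D F a * l1 * nw D F b := by rw [n_mul_n hG]
      _ = _ := by simp [nw, mul_assoc]
  have hL1 := nw_conj_L hG hLd hLK ha hl1
  have hab : ∀ k ∈ a ++ b, k < D.rank ∧ k ∈ K := fun k hk =>
    (List.mem_append.1 hk).elim (ha k) (hb' k)
  rw [hmain] at hd ⊢
  refine mul_mem hL1 (ih _ ?_ (a ++ b) rfl hab ?_)
  · simp only [List.length_append, List.length_cons, List.length_nil] at hlen ⊢
    omega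
  · have := mul_mem (inv_mem (hLd hL1)) hd
    rwa [inv_mul_cancel_left] at this

/-- Reversing a word. -/
theorem nw_inv_mem : ∀ {w : List ℕ}, (∀ i ∈ w, i < D.rank ∧ i ∈ K) →
    ∃ l ∈ L, (nw D F w)⁻¹ = l * nw D F w.reverse := by
  intro w
  induction w with
  | nil => intro _; exact ⟨1, one_mem _, by simp [nw]⟩
  | cons i w ih =>
    intro hw
    have hw' : ∀ k ∈ w, k < D.rank ∧ k ∈ K := fun k hk => hw k (by simp [hk])
    obtain ⟨l, hl, e⟩ := ih hw'
    have hh : hg D F (D.simple i) (-1) ∈ L := by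
      simpa using hLK i (hw i (by simp)).1 (hw i (by simp)).2 (-1)
    refine ⟨l * (nw D F w.reverse * hg D F (D.simple i) (-1) * (nw D F w.reverse)⁻¹),
      mul_mem hl (nw_conj_L hG hLd hLK (fun k hk => hw' k (List.mem_reverse.1 hk)) hh), ?_⟩
    rw [Good.actW_cons_supp, _root_.mul_inv_rev, e, hg_neg_one_mul hG, List.reverse_cons]
    simp [nw, mul_assoc]

/-- Two words in `K` that differ by a torus element differ by an element of `L`. -/
theorem mem_L_of_eq {w w' : List ℕ} (hw : ∀ i ∈ w, i < D.rank ∧ i ∈ K)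
    (hw' : ∀ i ∈ w', i < D.rank ∧ i ∈ K) {k : GL D.Idx F} (hk : k ∈ D.diagonalSubgroup F)
    (e : nw D F w = k * nw D F w') : k ∈ L := by
  obtain ⟨l, hl, el⟩ := nw_inv_mem hG hLd hLK hw'
  set y := nw D F w * l * (nw D F w)⁻¹
  have hy : y ∈ L := nw_conj_L hG hLd hLK hw hl
  have hc : ∀ i ∈ w ++ w'.reverse, i < D.rank ∧ i ∈ K := fun i hi =>
    (List.mem_append.1 hi).elim (hw i) fun h => hw' i (List.mem_reverse.1 h)
  have e1 : k = y * nw D F (w ++ w'.reverse) := by
    have : nw D F w * (nw D F w')⁻¹ = k := by rw [e, mul_inv_cancel_right]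
    rw [← this, el, show nw D F (w ++ w'.reverse) = nw D F w * nw D F w'.reverse by simp [nw]]
    simp only [y]
    group
  rw [e1]
  refine mul_mem hy (nw_mem_L hG hLd hLK _ _ rfl hc ?_)
  have := mul_mem (inv_mem (hLd hy)) hk
  rwa [e1, inv_mul_cancel_left] at this

end Cfsg.Agent.CurtisRichen82.Chev
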