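import Cfsg.Agent.CurtisRichen82.Chev.Setup
import Cfsg.Agent.CurtisRichen82.Chev.Braid
import Cfsg.Agent.CurtisRichen82.Count
import Cfsg.Agent.Lib.ChevCore.TorusCard
import Mathlib.RingTheory.RootsOfUnity.AlgebraicallyClosed

/-!
Steinberg's count of the semisimple classes.
-/

set_option autoImplicit false

namespace Cfsg.Agent.CurtisRichen82.Chev

open Cfsg.Lie Cfsg.Agent.ChevCore
open scoped Classical

universe u

variable {D : ChevalleyDatum} {F : Type u} [Field F]

/-- The torus map into the group. -/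
noncomputable def torusHom (hG : Good D) :
    (Fin D.rank → Fˣ) →* ↥((D.diagonalSubgroup F).subgroupOf (D.group F)) where
  toFun c := ⟨⟨tau D F c, hG.diagonalSubgroup_le_group (by rw [hG.diagonalSubgroup_eq_range]; exact ⟨c, rfl⟩)⟩,
    show tau D F c ∈ D.diagonalSubgroup F by rw [hG.diagonalSubgroup_eq_range]; exact ⟨c, rfl⟩⟩
  map_one' := Subtype.ext (Subtype.ext (map_one (tau D F)))
  map_mul' a b := Subtype.ext (Subtype.ext (map_mul (tau D F) a b))

theorem torusHom_bijective (hG : Good D) [Fintype F]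
    (hcard : Nat.card (D.diagonalSubgroup F) = (Fintype.card F - 1) ^ D.rank) :
    Function.Bijective (torusHom (F := F) hG) := by
  have hs : Function.Surjective (torusHom (F := F) hG) := by
    rintro ⟨⟨x, hx⟩, hxd⟩
    have hxd' : x ∈ D.diagonalSubgroup F := hxd
    rw [hG.diagonalSubgroup_eq_range] at hxd'
    obtain ⟨c, rfl⟩ := hxd'
    exact ⟨c, rfl⟩
  refine (Nat.bijective_iff_surjective_and_card _).2 ⟨hs, ?_⟩
  rw [Nat.card_congr (Subgroup.subgroupOfEquivOfLe hG.diagonalSubgroup_le_group).toEquiv, hcard,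
    Nat.card_pi, Finset.prod_const, Nat.card_eq_fintype_card, Fintype.card_units, Finset.card_univ,
    Fintype.card_fin]

variable [Fintype F] {k : Type} [Field k]

/-- The sum attached to a character of the multiplicative group. -/
noncomputable def muF (ψ : Fˣ →* kˣ) : k := ∑ u : Fˣ, ((ψ u : kˣ) : k)

theorem muF_cases (p : ℕ) [Fact p.Prime] [CharP F p] [CharP k p] (ψ : Fˣ →* kˣ) :
    (ψ = 1 ∧ muF ψ = -1) ∨ (ψ ≠ 1 ∧ muF ψ = 0) := by
  by_cases h : ψ = 1
  · refine Or.inl ⟨h, ?_⟩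
    obtain ⟨f, -, hq⟩ := FiniteField.card F p
    subst h
    simp only [muF, MonoidHom.one_apply, Units.val_one, Finset.sum_const, Finset.card_univ,
      nsmul_eq_mul, mul_one, Fintype.card_units]
    rw [Nat.cast_sub Fintype.card_pos, hq, Nat.cast_pow, CharP.cast_eq_zero, zero_pow f.pos.ne',
      Nat.cast_one, zero_sub]
  · refine Or.inr ⟨h, ?_⟩
    exact sum_hom_units_eq_zero ((Units.coeHom k).comp ψ) fun e => h (MonoidHom.ext fun u =>
      Units.ext (DFunLike.congr_fun e u))

/-- The choices at one coordinate. -/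
abbrev Coord (F : Type u) [Field F] [Fintype F] (k : Type) [Field k] : Type u :=
  {x : (Fˣ →* kˣ) × k // x.2 = 0 ∨ x.2 = muF x.1}

theorem card_coord (p : ℕ) [Fact p.Prime] [CharP F p] [IsAlgClosed k] [CharP k p] :
    Finite (Coord F k) ∧ Nat.card (Coord F k) = Fintype.card F := by
  have hne : (-1 : k) ≠ 0 := neg_ne_zero.2 one_ne_zero
  have h1 : muF (1 : Fˣ →* kˣ) = -1 := by
    rcases muF_cases p (1 : Fˣ →* kˣ) with ⟨-, h⟩ | ⟨h, -⟩
    · exact h
    · exact absurd rfl h
  let f : Option (Fˣ →* kˣ) → Coord F k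
    | none => ⟨(1, -1), Or.inr h1.symm⟩
    | some ψ => ⟨(ψ, 0), Or.inl rfl⟩
  have hf : Function.Bijective f := by
    refine ⟨?_, ?_⟩
    · rintro (_ | a) (_ | b) e
      · rfl
      · exact absurd (congrArg (fun x : Coord F k => x.1.2) e) hne
      · exact absurd (congrArg (fun x : Coord F k => x.1.2) e).symm hne
      · exact congrArg some (congrArg (fun x : Coord F k => x.1.1) e)
    · rintro ⟨⟨ψ, c⟩, hc⟩
      rcases hc with hc | hc
      · exact ⟨some ψ, Subtype.ext (Prod.ext rfl hc.symm)⟩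
      · rcases muF_cases p ψ with ⟨rfl, h⟩ | ⟨-, h⟩
        · exact ⟨none, Subtype.ext (Prod.ext rfl (h.symm.trans hc.symm))⟩
        · exact ⟨some ψ, Subtype.ext (Prod.ext rfl (h.symm.trans hc.symm))⟩
  set n := Monoid.exponent Fˣ
  have hn : NeZero (n : k) := ⟨fun h0 => by
    have hdvd : p ∣ n := (CharP.cast_eq_zero_iff k p n).1 h0
    have h2 : p ∣ Fintype.card Fˣ := hdvd.trans Group.exponent_dvd_card
    obtain ⟨f, -, hq⟩ := FiniteField.card F p
    have h3 : p ∣ Fintype.card F := hq ▸ dvd_pow_self p f.pos.ne'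
    rw [Fintype.card_units] at h2
    have h4 := Nat.dvd_sub h3 h2
    rw [Nat.sub_sub_self Fintype.card_pos] at h4
    exact (Fact.out : p.Prime).not_dvd_one h4⟩
  have hHom : Nat.card (Fˣ →* kˣ) = Fintype.card F - 1 := by
    rw [CommGroup.card_monoidHom_of_hasEnoughRootsOfUnity, Nat.card_eq_fintype_card,
      Fintype.card_units]
  have : Finite (Fˣ →* kˣ) := Nat.finite_of_card_ne_zero (by
    rw [hHom]; have := Fintype.one_lt_card (α := F); omega)
  refine ⟨Finite.of_surjective f hf.2, ?_⟩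
  rw [← Nat.card_congr (Equiv.ofBijective f hf), Finite.card_option, hHom,
    Nat.sub_add_cancel Fintype.card_pos]

variable (hD : D ∈ [chevG2, chevB2, chevD4, chevF4, chevE6, chevE7, chevE8])

include hD

omit hD in
theorem sum_of_bijective {α β M : Type*} [AddCommMonoid M] {iα : Fintype α} {iβ : Fintype β}
    (e : α → β) (he : Function.Bijective e) {f : β → M} {g : α → M} (h : ∀ a, g a = f (e a)) :
    (@Finset.univ α iα).sum g = (@Finset.univ β iβ).sum f :=
  Fintype.sum_bijective e he g f h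

/-- The scalar of a fundamental reflection. -/
theorem mu_eq (p : ℕ) [Fact p.Prime] [CharP F p] [Fintype ↥(D.group F)]
    (S : Setting ↥(D.group F) (Fin D.rank) p)
    (hSn : ∀ i : Fin D.rank, ((S.n i : ↥(D.group F)) : GL D.Idx F) = ng D F (D.simple i.val) 1)
    (hSX : ∀ i : Fin D.rank, ∀ a : ↥(D.group F), a ∈ S.X i ↔
      ∃ t, xg D F (D.simple i.val) t = (a : GL D.Idx F))
    (Hg : Fin D.rank → Fˣ →* S.H)
    (hHg : ∀ i (u : Fˣ), ((Hg i u : ↥(D.group F)) : GL D.Idx F) =
      hg D F (D.simple i.val) (u : F))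
    (k : Type) [Field k] (i : Fin D.rank) (χ : S.H →* kˣ) :
    S.mu i χ = muF (χ.comp (Hg i)) := by
  have hG := (commGood_of_mem hD).toGood
  have hmem : ∀ i (u : Fˣ), (⟨xg D F (D.simple i.val) (u : F), hG.xg_mem_group _ _⟩ :
      ↥(D.group F)) ∈ S.X i := fun i u => (hSX i _).2 ⟨_, rfl⟩
  let e : Fˣ → {a : S.X i // (a : ↥(D.group F)) ≠ 1} := fun u =>
    ⟨⟨_, hmem i u⟩, fun h => xg_ne_one hG (hG.simple_lt i.isLt) u.ne_zero
      (congrArg (fun x : ↥(D.group F) => (x : GL D.Idx F)) h)⟩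
  have he : Function.Bijective e := by
    refine ⟨fun u v h => Units.ext (hG.xg_injective (hG.simple_lt i.isLt)
      (congrArg (fun a : {a : S.X i // (a : ↥(D.group F)) ≠ 1} =>
        ((a.1 : ↥(D.group F)) : GL D.Idx F)) h)), ?_⟩
    rintro ⟨⟨a, ha⟩, ha1⟩
    obtain ⟨t, hat⟩ := (hSX i a).1 ha
    have ht0 : t ≠ 0 := by
      rintro rfl
      exact ha1 (Subtype.ext (hat.symm.trans (hG.xg_zero _)))
    exact ⟨Units.mk0 t ht0, Subtype.ext (Subtype.ext (Subtype.ext hat))⟩
  rw [Setting.mu, muF]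
  refine (sum_of_bijective e he fun u => ?_).symm
  suffices h : (S.hh i (e u).1)⁻¹ = Hg i u by rw [h]; rfl
  have hconj : (ng D F (D.simple i.val) 1)⁻¹ * xg D F (D.simple i.val) (u : F) *
      ng D F (D.simple i.val) 1 = xg D F (D.neg (D.simple i.val)) (-(u : F)) := by
    have h := hG.ng_simple_conj (F := F) i.isLt (e := -1) (by ring) (u : F)
    rw [← hG.ng_inv, inv_inv] at h
    exact h
  set n := S.n i
  set h₀ := n⁻¹ * ((Hg i u⁻¹ : S.H) : ↥(D.group F)) * n
  have hh0 : h₀ ∈ S.H := by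
    have := S.conj_H _ (inv_mem (S.n_mem i)) _ (Hg i u⁻¹).2
    rwa [inv_inv] at this
  have hb : (⟨xg D F (D.simple i.val) (-(u : F)⁻¹), hG.xg_mem_group _ _⟩ : ↥(D.group F)) ∈
      S.X i := (hSX i _).2 ⟨_, rfl⟩
  have hfac := S.hh_eq (e u).1 (e u).2 hb hb hh0 (Subtype.ext (by
    simp only [Subgroup.coe_mul, InvMemClass.coe_inv, h₀, n, hSn, hHg, Units.val_inv_eq_inv_val]
    show (ng D F (D.simple i.val) 1)⁻¹ * xg D F (D.simple i.val) (u : F) *
      ng D F (D.simple i.val) 1 = _
    rw [hconj, ng_neg_eq hG (u : F) u.ne_zero]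
    group))
  have : S.hh i (e u).1 = Hg i u⁻¹ := Subtype.ext (hfac.trans (by simp only [h₀, n]; group))
  rw [this, map_inv, inv_inv]

/-- A simple module of every weight. -/
theorem exists_simple_chev (p : ℕ) [Fact p.Prime] [CharP F p] [Fintype ↥(D.group F)]
    (S : Setting ↥(D.group F) (Fin D.rank) p)
    (hSU : S.U = (D.posUnipotent F).subgroupOf (D.group F))
    (hSH : S.H = (D.diagonalSubgroup F).subgroupOf (D.group F))
    (hSn : ∀ i : Fin D.rank, ((S.n i : ↥(D.group F)) : GL D.Idx F) = ng D F (D.simple i.val) 1)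
    (hSX : ∀ i : Fin D.rank, ∀ a : ↥(D.group F), a ∈ S.X i ↔
      ∃ t, xg D F (D.simple i.val) t = (a : GL D.Idx F))
    {w0 : List ℕ} (hw0 : ∀ i ∈ w0, i < D.rank)
    (hz : ((S.z : ↥(D.group F)) : GL D.Idx F) = nw D F w0)
    (hneg : ∀ r < D.nroots, 1 ≤ ht D r → ht D (actW D w0.reverse r) ≤ -1)
    (Hg : Fin D.rank → Fˣ →* S.H)
    (hHg : ∀ i (u : Fˣ), ((Hg i u : ↥(D.group F)) : GL D.Idx F) =
      hg D F (D.simple i.val) (u : F))
    (k : Type) [Field k] [IsAlgClosed k] [CharP k p]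
    (hmu : ∀ (i : Fin D.rank) (χ : S.H →* kˣ), S.mu i χ = muF (χ.comp (Hg i)))
    (χ : S.H →* kˣ) (lam : Fin D.rank → k) (hlam : ∀ i, lam i = 0 ∨ lam i = S.mu i χ) :
    ∃ (d : ℕ) (σ : Representation k ↥(D.group F) (Fin d → k)), Irred σ ∧
      ∃ y, IsWeightVec S σ χ lam y := by
  have hG := (commGood_of_mem hD).toGood
  have hmem : ∀ i (u : Fˣ), (⟨xg D F (D.simple i.val) (u : F), hG.xg_mem_group _ _⟩ :
      ↥(D.group F)) ∈ S.X i := fun i u => (hSX i _).2 ⟨_, rfl⟩
  let K : Set ℕ := {j | ∃ h : j < D.rank, lam ⟨j, h⟩ = 0 ∧ S.mu ⟨j, h⟩ χ ≠ 0}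
  let L : Subgroup (GL D.Idx F) := χ.ker.map ((D.group F).subtype.comp S.H.subtype)
  have hLd : L ≤ D.diagonalSubgroup F := by
    rintro _ ⟨h, -, rfl⟩
    have := h.2
    rw [SetLike.ext_iff.1 hSH] at this
    exact this
  have htriv : ∀ j (hj : j < D.rank), j ∈ K → ∀ u : Fˣ, χ (Hg ⟨j, hj⟩ u) = 1 := by
    rintro j hj ⟨_, -, hne⟩ u
    rw [hmu] at hne
    rcases muF_cases p (χ.comp (Hg ⟨j, hj⟩)) with ⟨h, -⟩ | ⟨-, h⟩
    · exact DFunLike.congr_fun h u
    · exact absurd h hne
  have hLK : ∀ j < D.rank, j ∈ K → ∀ c : Fˣ, hg D F (D.simple j) (c : F) ∈ L := fun j hj hjK c =>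
    ⟨Hg ⟨j, hj⟩ c, htriv j hj hjK c, hHg _ _⟩
  let Sup : ↥(D.group F) → Prop := fun m => ∃ h : S.H, ∃ w : List ℕ,
    (∀ j ∈ w, j < D.rank ∧ j ∈ K) ∧
      (m : GL D.Idx F) = ((h : ↥(D.group F)) : GL D.Idx F) * nw D F w * nw D F w0
  let c : ↥(D.group F) → k := fun m => if e : Sup m then ((χ e.choose⁻¹ : kˣ) : k) else 0
  have hval : ∀ (m : ↥(D.group F)) (h : S.H) (w : List ℕ), (∀ j ∈ w, j < D.rank ∧ j ∈ K) →
      (m : GL D.Idx F) = ((h : ↥(D.group F)) : GL D.Idx F) * nw D F w * nw D F w0 →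
        c m = ((χ h⁻¹ : kˣ) : k) := by
    intro m h w hw e
    have hs : Sup m := ⟨h, w, hw, e⟩
    obtain ⟨w', hw', e'⟩ := hs.choose_spec
    set h' := hs.choose
    simp only [c, dif_pos hs]
    have e1 : ((h : ↥(D.group F)) : GL D.Idx F) * nw D F w =
        ((h' : ↥(D.group F)) : GL D.Idx F) * nw D F w' := mul_right_cancel (e.symm.trans e')
    have hk : ((h : ↥(D.group F)) : GL D.Idx F)⁻¹ * ((h' : ↥(D.group F)) : GL D.Idx F) ∈
        D.diagonalSubgroup F := by
      have := (h⁻¹ * h').2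
      rw [SetLike.ext_iff.1 hSH] at this
      exact this
    have := mem_L_of_eq hG hLd hLK hw hw' hk (by rw [mul_assoc, ← e1, inv_mul_cancel_left])
    obtain ⟨y, hy, hye⟩ := this
    have hy' : y = h⁻¹ * h' := Subtype.ext (Subtype.ext hye)
    rw [hy', SetLike.mem_coe, MonoidHom.mem_ker, map_mul, map_inv, inv_mul_eq_one] at hy
    rw [map_inv, map_inv, hy]
  have hnsup : ∀ m, ¬ Sup m → c m = 0 := fun m h => by simp only [c, dif_neg h]
  have hD' : ∀ {x : ↥(D.group F)}, x ∈ S.H → (x : GL D.Idx F) ∈ D.diagonalSubgroup F := by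
    intro x hx; rw [hSH] at hx; exact hx
  have hKlt : ∀ {w : List ℕ}, (∀ j ∈ w, j < D.rank ∧ j ∈ K) → ∀ j ∈ w, j < D.rank :=
    fun hw j hj => (hw j hj).1
  have hcH : ∀ h : S.H, ∀ m ∈ S.N, c ((h : ↥(D.group F)) * m) =
      ((χ h⁻¹ : kˣ) : k) * c m := by
    intro h m _
    by_cases hs : Sup m
    · obtain ⟨h', w, hw, e⟩ := hs
      rw [hval m h' w hw e, hval _ (h * h') w hw (by rw [Subgroup.coe_mul, e]; simp only [Subgroup.coe_mul, mul_assoc]),
        map_inv, map_inv, map_inv, map_mul, _root_.mul_inv, Units.val_mul]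
    · rw [hnsup m hs, mul_zero, hnsup]
      rintro ⟨h', w, hw, e⟩
      refine hs ⟨h⁻¹ * h', w, hw, ?_⟩
      rw [show m = ((h⁻¹ : S.H) : ↥(D.group F)) * ((h : ↥(D.group F)) * m) by
        rw [InvMemClass.coe_inv, inv_mul_cancel_left], Subgroup.coe_mul, e]
      simp only [Subgroup.coe_mul, mul_assoc]
  -- the sign at the support
  have hdown : ∀ (i : Fin D.rank) (m : ↥(D.group F)), i.val ∉ K → Sup m → ¬ S.Up i m := by
    rintro i m hiK ⟨h, w, hw, e⟩ hup
    have hp := hG.simple_lt i.isLt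
    have hwlt := hKlt hw
    have hrev : ∀ j ∈ w.reverse, j < D.rank := fun j hj => hwlt j (List.mem_reverse.1 hj)
    have hrev0 : ∀ j ∈ w0.reverse, j < D.rank := fun j hj => hw0 j (List.mem_reverse.1 hj)
    have hall : ∀ j ∈ w ++ w0, j < D.rank := fun j hj =>
      (List.mem_append.1 hj).elim (hwlt j) (hw0 j)
    have hm := hup _ (hmem i 1)
    rw [hSU] at hm
    have hm' : (m : GL D.Idx F)⁻¹ * xg D F (D.simple i.val) ((1 : Fˣ) : F) * m ∈
        D.posUnipotent F := hm
    rw [e, mul_assoc _ (nw D F w), show nw D F w * nw D F w0 = nw D F (w ++ w0) by simp [nw],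
      monomial_conj_mem_iff hG (hD' h.2) hall hp (Units.ne_zero _), List.reverse_append,
      actW_append] at hm'
    have hlt := hG.actW_lt hrev hp
    have hcoef : coef D (actW D w.reverse (D.simple i.val)) i.val = 1 := by
      have : ∀ v : List ℕ, (∀ j ∈ v, j < D.rank ∧ j ≠ i.val) →
          coef D (actW D v (D.simple i.val)) i.val = 1 := by
        intro v
        induction v with
        | nil => intro _; rw [actW_nil, hG.coef_simple i.isLt i.isLt, if_pos rfl]
        | cons j v ih =>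
          intro hv
          have hj := hv j (by simp)
          rw [actW_cons, hG.coef_refl hj.1 (hG.actW_lt (fun l hl => (hv l (by simp [hl])).1) hp)
            i.isLt, if_neg (fun h => hj.2 h.symm), sub_zero, ih fun l hl => hv l (by simp [hl])]
      exact this _ fun j hj => ⟨hrev j hj, fun h => hiK (h ▸ (hw j (List.mem_reverse.1 hj)).2)⟩
    have hpos := hG.ht_pos_of_coef hlt i.isLt (by omega)
    have := hneg _ hlt (by omega)
    omega
  have hns : ∀ i : Fin D.rank, ∀ t : F,
      (ng D F (D.simple i.val) 1)⁻¹ * xg D F (D.simple i.val) t * ng D F (D.simple i.val) 1 =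
        xg D F (D.neg (D.simple i.val)) (-t) := fun i t => by
    have h := hG.ng_simple_conj (F := F) i.isLt (e := -1) (by ring) t
    rw [← hG.ng_inv, inv_inv] at h
    exact h
  refine exists_simple_of_coord χ lam c hcH ⟨S.z, S.z_mem, ?_⟩ ?_ ?_
  · rw [hval S.z 1 [] (by simp) (by rw [hz]; simp [nw])]
    exact Units.ne_zero _
  · intro i m _ hup
    by_cases hs : Sup m
    · by_cases hiK : i.val ∈ K
      · obtain ⟨_, h0, -⟩ := hiK
        rw [show lam i = 0 from h0, zero_mul]
      · exact absurd hup (hdown i m hiK hs)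
    · rw [hnsup m hs, mul_zero]
  · intro i m hmN hdn
    by_cases hiK : i.val ∈ K
    · have hh : ∀ h : S.H, ∃ h' : S.H, χ h' = χ h ∧
          ((h' : ↥(D.group F)) : GL D.Idx F) * ng D F (D.simple i.val) 1 =
            ng D F (D.simple i.val) 1 * ((h : ↥(D.group F)) : GL D.Idx F) := by
        intro h
        obtain ⟨a, ha⟩ := n_conj_diag hG i.isLt (hD' h.2)
        refine ⟨h * Hg i a, by rw [map_mul, htriv i.val i.isLt hiK a, mul_one], ?_⟩
        rw [Subgroup.coe_mul, Subgroup.coe_mul, hHg, ← ha]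
        group
      have hkey : c ((S.n i)⁻¹ * m) = c m := by
        by_cases hs : Sup m
        · obtain ⟨h, w, hw, e⟩ := hs
          obtain ⟨h', hχ, he'⟩ := hh h
          rw [hval m h w hw e, hval _ (Hg i (-1) * h') (i.val :: w)
            (fun j hj => (List.mem_cons.1 hj).elim (fun hj' => hj' ▸ ⟨i.isLt, hiK⟩) (hw j)) ?_]
          · rw [map_inv, map_inv, map_mul, htriv i.val i.isLt hiK, one_mul, hχ]
          · rw [Subgroup.coe_mul, InvMemClass.coe_inv, hSn, hg_neg_one_mul hG, e, Subgroup.coe_mul,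
              Subgroup.coe_mul, hHg, Units.val_neg, Units.val_one, Good.actW_cons_supp]
            calc _ = hg D F (D.simple i.val) (-1) * (ng D F (D.simple i.val) 1 *
                  ((h : ↥(D.group F)) : GL D.Idx F)) * nw D F w * nw D F w0 := by group
              _ = _ := by rw [← he']; group
        · rw [hnsup m hs, hnsup]
          rintro ⟨h, w, hw, e⟩
          obtain ⟨h', hχ, he'⟩ := hh h
          refine hs ⟨h', i.val :: w,
            fun j hj => (List.mem_cons.1 hj).elim (fun hj' => hj' ▸ ⟨i.isLt, hiK⟩) (hw j), ?_⟩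
          rw [Subgroup.coe_mul, InvMemClass.coe_inv, hSn] at e
          rw [Good.actW_cons_supp]
          calc (m : GL D.Idx F) = ng D F (D.simple i.val) 1 *
                ((ng D F (D.simple i.val) 1)⁻¹ * (m : GL D.Idx F)) := by group
            _ = ng D F (D.simple i.val) 1 * ((h : ↥(D.group F)) : GL D.Idx F) * nw D F w *
                  nw D F w0 := by rw [e]; group
            _ = _ := by rw [← he']; group
      obtain ⟨_, h0, hne⟩ := hiK
      have hne' : S.mu i χ ≠ 0 := hne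
      have hm1 : S.mu i χ = -1 := by
        rw [hmu] at hne' ⊢
        rcases muF_cases p (χ.comp (Hg i)) with ⟨-, h⟩ | ⟨-, h⟩
        · exact h
        · exact absurd h hne'
      rw [hkey, hm1, show lam i = 0 from h0]
      ring
    · have hl : lam i = S.mu i χ := by
        rcases hlam i with h | h
        · by_contra hne
          exact hiK ⟨i.isLt, h, fun h' => hne (h.trans h'.symm)⟩
        · exact h
      rw [hl, add_eq_right]
      refine hnsup _ fun hs => hdown i _ hiK hs fun a ha => ?_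
      obtain ⟨t, hat⟩ := (hSX i a).1 ha
      have hy : (⟨xg D F (D.neg (D.simple i.val)) (-t), hG.xg_mem_group _ _⟩ : ↥(D.group F)) ∈
          S.Y i := by
        have h := S.conj_X' i a ha
        rwa [show (S.n i)⁻¹ * a * S.n i =
          ⟨xg D F (D.neg (D.simple i.val)) (-t), hG.xg_mem_group _ _⟩ from Subtype.ext (by
            rw [Subgroup.coe_mul, Subgroup.coe_mul, InvMemClass.coe_inv, hSn, ← hat, hns])] at h
      have h2 := S.dich i m hmN hdn _ hy
      rw [hSU] at h2 ⊢
      show (((S.n i)⁻¹ * m : ↥(D.group F)) : GL D.Idx F)⁻¹ * (a : GL D.Idx F) *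
        (((S.n i)⁻¹ * m : ↥(D.group F)) : GL D.Idx F) ∈ D.posUnipotent F
      rw [Subgroup.coe_mul, InvMemClass.coe_inv, hSn, ← hat,
        show ((ng D F (D.simple i.val) 1)⁻¹ * (m : GL D.Idx F))⁻¹ * xg D F (D.simple i.val) t *
          ((ng D F (D.simple i.val) 1)⁻¹ * (m : GL D.Idx F)) = (m : GL D.Idx F)⁻¹ *
            (ng D F (D.simple i.val) 1 * xg D F (D.simple i.val) t *
              (ng D F (D.simple i.val) 1)⁻¹) * m by group, hG.ng_simple_conj i.isLt (one_mul 1)]
      exact h2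

/-- Classes of elements of order prime to the characteristic. -/
theorem card_regular_classes_chev (p : ℕ) [Fact p.Prime] [CharP F p]
    (hcard : Nat.card (D.diagonalSubgroup F) = (Fintype.card F - 1) ^ D.rank) :
    Nat.card {C : ConjClasses ↥(D.group F) // ¬ p ∣ orderOf (Quotient.out C)} =
      Fintype.card F ^ D.rank := by
  have hC := commGood_of_mem hD
  have hG := hC.toGood
  let _ : Fintype ↥(D.group F) := Fintype.ofFinite _
  obtain ⟨S, hSU, hSH, hSN, hSn, hSX, w0, hw0, hz, hneg⟩ := exists_setting (F := F) hD p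
  let T : (Fin D.rank → Fˣ) ≃* S.H :=
    (MulEquiv.ofBijective (torusHom hG) (torusHom_bijective hG hcard)).trans
      (MulEquiv.subgroupCongr hSH.symm)
  have hT : ∀ c, ((T c : ↥(D.group F)) : GL D.Idx F) = tau D F c := fun c => rfl
  let Hg : Fin D.rank → Fˣ →* S.H := fun i =>
    T.toMonoidHom.comp (MonoidHom.mulSingle (fun _ : Fin D.rank => Fˣ) i)
  have hHg : ∀ i (u : Fˣ), ((Hg i u : ↥(D.group F)) : GL D.Idx F) =
      hg D F (D.simple i.val) (u : F) := fun i u => (hT _).trans (hG.tau_single u)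
  have hmu : ∀ {k : Type} [Field k] (i : Fin D.rank) (χ : S.H →* kˣ),
      S.mu i χ = muF (χ.comp (Hg i)) := fun {k} _ i χ => mu_eq hD p S hSn hSX Hg hHg k i χ
  have hex : ∀ (k : Type) [Field k] [IsAlgClosed k] [CharP k p],
      ∀ w : Wt S k, ∃ (d : ℕ) (σ : Representation k ↥(D.group F) (Fin d → k)), Irred σ ∧
        ∃ y, IsWeightVec S σ w.1.1 w.1.2 y := fun k _ _ _ w =>
    exists_simple_chev hD p S hSU hSH hSn hSX hw0 hz hneg Hg hHg k (fun i χ => hmu i χ)
      w.1.1 w.1.2 w.2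
  obtain ⟨k, hkf, hka, hkc, hk⟩ := card_regular_classes S hex
  have hco := card_coord (F := F) (k := k) p
  have := hco.1
  have := Fintype.ofFinite (Coord F k)
  let split : (Fin D.rank → (Fˣ →* kˣ)) → (S.H →* kˣ) := fun ψ =>
    (∏ i, (ψ i).comp (Pi.evalMonoidHom (fun _ => Fˣ) i)).comp T.symm.toMonoidHom
  have hsplit : ∀ ψ i, (split ψ).comp (Hg i) = ψ i := by
    intro ψ i
    ext u
    simp only [split, Hg, MonoidHom.comp_apply, MulEquiv.coe_toMonoidHom, MonoidHom.mulSingle_apply,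
      MulEquiv.symm_apply_apply, MonoidHom.finsetProd_apply, Pi.evalMonoidHom_apply]
    rw [Finset.prod_eq_single i]
    · rw [Pi.mulSingle_eq_same]
    · intro j _ hj; rw [Pi.mulSingle_eq_of_ne hj, map_one]
    · simp
  have hjoin : ∀ χ : S.H →* kˣ, split (fun i => χ.comp (Hg i)) = χ := by
    intro χ
    ext h
    obtain ⟨c, rfl⟩ := T.surjective h
    simp only [split, MonoidHom.comp_apply, MulEquiv.coe_toMonoidHom, MulEquiv.symm_apply_apply,
      MonoidHom.finsetProd_apply, Pi.evalMonoidHom_apply]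
    conv_rhs => rw [← MulEquiv.coe_toMonoidHom, ← MonoidHom.comp_apply,
      ← Finset.univ_prod_mulSingle c, map_prod]
    rfl
  let e : Wt S k ≃ (Fin D.rank → Coord F k) :=
    { toFun := fun w i => ⟨(w.1.1.comp (Hg i), w.1.2 i), by rw [← hmu]; exact w.2 i⟩
      invFun := fun x => ⟨(split fun i => (x i).1.1, fun i => (x i).1.2), fun i => by
        have h := (x i).2
        rwa [hmu, hsplit]⟩
      left_inv := fun w => Subtype.ext (Prod.ext (hjoin _) rfl)
      right_inv := fun x => funext fun i => Subtype.ext (Prod.ext (hsplit _ i) rfl) }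
  have : Finite (Wt S k) := Finite.of_equiv _ e.symm
  rw [hk this, Nat.card_congr e, Nat.card_pi, Finset.prod_const, hco.2, Finset.card_univ,
    Fintype.card_fin]

omit hD in
/-- Classes with a representative of order prime to `p`. -/
theorem card_coprime_classes {G : Type*} [Group G] (p : ℕ) [Fact p.Prime] :
    Nat.card {c : ConjClasses G // ∃ g : G, ConjClasses.mk g = c ∧ (orderOf g).Coprime p} =
      Nat.card {C : ConjClasses G // ¬ p ∣ orderOf (Quotient.out C)} := by
  refine Nat.card_congr (Equiv.subtypeEquivRight fun c => ?_)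
  have hp : p.Prime := Fact.out
  constructor
  · rintro ⟨g, rfl, hg⟩
    obtain ⟨w, hw⟩ := isConj_iff.1
      (ConjClasses.mk_eq_mk_iff_isConj.1 (Quotient.out_eq (ConjClasses.mk g)))
    have e : orderOf g = orderOf (Quotient.out (ConjClasses.mk g)) := by
      conv_lhs => rw [← hw]
      exact MulEquiv.orderOf_eq (MulAut.conj w) _
    rw [← e, ← hp.coprime_iff_not_dvd]
    exact hg.symm
  · intro h
    exact ⟨Quotient.out c, Quotient.out_eq c, (hp.coprime_iff_not_dvd.2 h).symm⟩

end Cfsg.Agent.CurtisRichen82.Chev
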