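import Cfsg.Agent.Lib.ChevCore.Models
import Cfsg.Agent.Lib.ChevCore.Parabolic
import Cfsg.Agent.Lib.ChevCore.UStruct
import Cfsg.Agent.Lib.ChevCore.BorelMore
import Cfsg.Agent.Lib.ChevCore.SepAll
import Cfsg.Agent.Lib.ChevCore.RankOneHom
import Cfsg.Agent.ChevNormal82.Main

/-!
Monomial elements of the Chevalley groups and the signs of roots.
-/

set_option autoImplicit false

namespace Cfsg.Agent.CurtisRichen82.Chev

open Cfsg.Lie Cfsg.Agent.ChevCore

variable {D : ChevalleyDatum} {F : Type*} [Field F] (hG : Good D)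

include hG

theorem xg_ne_one {r : ℕ} (hr : r < D.nroots) {t : F} (ht : t ≠ 0) : xg D F r t ≠ 1 := fun e =>
  ht (hG.xg_injective hr (e.trans (hG.xg_zero r).symm))

/-- A nontrivial root element lies in the positive unipotent group iff the root is positive. -/
theorem xg_mem_pos_iff {r : ℕ} (hr : r < D.nroots) {t : F} (ht0 : t ≠ 0) :
    xg D F r t ∈ D.posUnipotent F ↔ 0 < ht D r := by
  refine ⟨fun h => ?_, fun h => ?_⟩
  · by_contra hn
    have hneg : ht D r ≤ -1 := by have := hG.ht_ne_zero hr; omega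
    have hm : xg D F r t ∈ D.borelSubgroup F ⊓ D.negUnipotent F := by
      refine ⟨Subgroup.mem_sup_left h, ?_⟩
      rw [hG.negUnipotent_eq]
      exact xg_mem_XS hr (show r ∈ {r | ht D r ≤ -1} from hneg) t
    rw [hG.borel_inf_neg, Subgroup.mem_bot] at hm
    exact xg_ne_one hG hr ht0 hm
  · rw [hG.posUnipotent_eq]
    exact xg_mem_XS hr (show 1 ≤ ht D r by omega) t

theorem diag_conj_x {h : GL D.Idx F} (hh : h ∈ D.diagonalSubgroup F) {r : ℕ} (hr : r < D.nroots)
    (t : F) : ∃ a : Fˣ, h * xg D F r t * h⁻¹ = xg D F r ((a : F) * t) := by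
  rw [hG.diagonalSubgroup_eq_range] at hh
  obtain ⟨c, rfl⟩ := hh
  exact ⟨_, hG.tau_conj_x c hr t⟩

theorem hg_neg_one_mul {i : ℕ} :
    (ng D F (D.simple i) 1)⁻¹ = hg D F (D.simple i) (-1) * ng D F (D.simple i) 1 := by
  rw [hG.ng_inv, hG.ng_eq_hg_mul]

/-- A fundamental reflection moves a torus element by its coroot. -/
theorem n_conj_diag {i : ℕ} (hi : i < D.rank) {h : GL D.Idx F} (hh : h ∈ D.diagonalSubgroup F) :
    ∃ a : Fˣ, ng D F (D.simple i) 1 * h * (ng D F (D.simple i) 1)⁻¹ =
      h * hg D F (D.simple i) (a : F) := by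
  have hp := hG.simple_lt hi
  rw [hG.diagonalSubgroup_eq_range] at hh
  obtain ⟨c, rfl⟩ := hh
  set s : Fin D.nroots := ⟨D.simple i, hp⟩
  set s' : Fin D.nroots := ⟨D.neg (D.simple i), hG.neg_lt hp⟩
  have hinv : (tauW D F c⁻¹ (Sum.inr s') : Fˣ) = (tauW D F c⁻¹ (Sum.inr s))⁻¹ := by
    simp only [tauW, Sum.elim_inr, ← Finset.prod_inv_distrib]
    refine Finset.prod_congr rfl fun j _ => ?_
    rw [show D.cartan j.val s'.val = -D.cartan j.val s.val from hG.cartan_neg hp j.isLt,
      _root_.zpow_neg]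
  set a := tauW D F c⁻¹ (Sum.inr s)
  have h1 : tau D F c⁻¹ * ng D F (D.simple i) 1 * (tau D F c⁻¹)⁻¹ =
      hg D F (D.simple i) (a : F) * ng D F (D.simple i) 1 := by
    rw [← hG.ng_eq_hg_mul, ← MulAut.conj_apply]
    simp only [ng, map_mul, MulAut.conj_apply]
    rw [hG.tau_conj_x _ hp, hG.tau_conj_x _ (hG.neg_lt hp), hinv]
    congr 2 <;> simp [a, s]
  refine ⟨a, ?_⟩
  rw [map_inv] at h1
  have e := congrArg (fun x => tau D F c * x * (ng D F (D.simple i) 1)⁻¹) h1
  simpa [mul_assoc] using e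

theorem n_mul_n {i : ℕ} :
    ng D F (D.simple i) 1 * ng D F (D.simple i) 1 = (hg D F (D.simple i) (-1))⁻¹ := by
  have h := hg_neg_one_mul (F := F) hG (i := i)
  exact eq_inv_of_mul_eq_one_right (by rw [← mul_assoc, ← h, inv_mul_cancel])

/-- Monomial elements. -/
theorem exists_monomial_form {m : GL D.Idx F} (hm : m ∈ D.monomialSubgroup F) :
    ∃ h ∈ D.diagonalSubgroup F, ∃ w : List ℕ, (∀ i ∈ w, i < D.rank) ∧ m = h * nw D F w := by
  rw [monomial_eq_nw hG] at hm
  let S : Subgroup (GL D.Idx F) :=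
    { carrier := {m | ∃ h ∈ D.diagonalSubgroup F, ∃ w : List ℕ, (∀ i ∈ w, i < D.rank) ∧
        m = h * nw D F w}
      one_mem' := ⟨1, one_mem _, [], by simp, by simp [nw]⟩
      mul_mem' := by
        rintro _ _ ⟨h, hh, w, hw, rfl⟩ ⟨h', hh', w', hw', rfl⟩
        have hmove : ∀ v : List ℕ, (∀ i ∈ v, i < D.rank) → ∀ k ∈ D.diagonalSubgroup F,
            nw D F v * k * (nw D F v)⁻¹ ∈ D.diagonalSubgroup F := by
          intro v
          induction v with
          | nil => intro _ k hk; simpa [nw] using hk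
          | cons i v ih =>
            intro hv k hk
            obtain ⟨a, ha⟩ := n_conj_diag hG (hv i (by simp))
              (ih (fun j hj => hv j (by simp [hj])) k hk)
            rw [Good.actW_cons_supp, show ng D F (D.simple i) 1 * nw D F v * k *
              (ng D F (D.simple i) 1 * nw D F v)⁻¹ = ng D F (D.simple i) 1 *
                (nw D F v * k * (nw D F v)⁻¹) * (ng D F (D.simple i) 1)⁻¹ by group, ha]
            exact mul_mem (ih (fun j hj => hv j (by simp [hj])) k hk)
              (hG.hg_mem_H (hG.simple_lt (hv i (by simp))) a.ne_zero)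
        refine ⟨h * (nw D F w * h' * (nw D F w)⁻¹), mul_mem hh (hmove w hw h' hh'), w ++ w', ?_, ?_⟩
        · intro i hi
          rcases List.mem_append.1 hi with h | h
          exacts [hw i h, hw' i h]
        · simp only [nw, List.map_append, List.prod_append]
          group
      inv_mem' := by
        rintro _ ⟨h, hh, w, hw, rfl⟩
        induction w generalizing h with
        | nil => exact ⟨h⁻¹, inv_mem hh, [], by simp, by simp [nw]⟩
        | cons i w ih =>
          have hi : i < D.rank := hw i (by simp)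
          have hw' : ∀ j ∈ w, j < D.rank := fun j hj => hw j (by simp [hj])
          obtain ⟨a, ha⟩ := n_conj_diag hG hi hh
          obtain ⟨k, hk, v, hv, e⟩ := ih 1 (one_mem _) hw'
          obtain ⟨b, hb⟩ := n_conj_diag hG hi
            (mul_mem (hG.hg_mem_H (hG.simple_lt hi) (neg_ne_zero.2 one_ne_zero)) (one_mem _) :
              hg D F (D.simple i) (-1) * 1 ∈ D.diagonalSubgroup F)
          have hmove : ∀ v : List ℕ, (∀ i ∈ v, i < D.rank) → ∀ k ∈ D.diagonalSubgroup F,
              nw D F v * k * (nw D F v)⁻¹ ∈ D.diagonalSubgroup F := by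
            intro v
            induction v with
            | nil => intro _ k hk; simpa [nw] using hk
            | cons j v ih =>
              intro hv k hk
              obtain ⟨a, ha⟩ := n_conj_diag hG (hv j (by simp))
                (ih (fun l hl => hv l (by simp [hl])) k hk)
              rw [Good.actW_cons_supp, show ng D F (D.simple j) 1 * nw D F v * k *
                (ng D F (D.simple j) 1 * nw D F v)⁻¹ = ng D F (D.simple j) 1 *
                  (nw D F v * k * (nw D F v)⁻¹) * (ng D F (D.simple j) 1)⁻¹ by group, ha]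
              exact mul_mem (ih (fun l hl => hv l (by simp [hl])) k hk)
                (hG.hg_mem_H (hG.simple_lt (hv j (by simp))) a.ne_zero)
          refine ⟨k * (nw D F v * hg D F (D.simple i) (-1) * (nw D F v)⁻¹) *
            (nw D F (v ++ [i]) * h⁻¹ * (nw D F (v ++ [i]))⁻¹),
            mul_mem (mul_mem hk (hmove v hv _ (hG.hg_mem_H (hG.simple_lt hi)
              (neg_ne_zero.2 one_ne_zero)))) (hmove _ ?_ _ (inv_mem hh)), v ++ [i], ?_, ?_⟩
          · intro j hj
            rcases List.mem_append.1 hj with h | h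
            exacts [hv j h, List.mem_singleton.1 h ▸ hi]
          · intro j hj
            rcases List.mem_append.1 hj with h | h
            exacts [hv j h, List.mem_singleton.1 h ▸ hi]
          · rw [one_mul] at e
            rw [Good.actW_cons_supp, _root_.mul_inv_rev, _root_.mul_inv_rev, e, hg_neg_one_mul hG]
            simp only [nw, List.map_append, List.prod_append, List.map_cons, List.map_nil,
              List.prod_cons, List.prod_nil, mul_one]
            group }
  have hle : D.diagonalSubgroup F ⊔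
      Subgroup.closure {g | ∃ i < D.rank, g = ng D F (D.simple i) 1} ≤ S := by
    refine sup_le (fun h hh => ⟨h, hh, [], by simp, by simp [nw]⟩) ((Subgroup.closure_le _).2 ?_)
    rintro _ ⟨i, hi, rfl⟩
    exact ⟨1, one_mem _, [i], by simp [hi], by simp [nw]⟩
  exact hle hm

theorem nw_inv_conj_x {w : List ℕ} (hw : ∀ i ∈ w, i < D.rank) {r : ℕ} (hr : r < D.nroots) (t : F) :
    ∃ a : Fˣ, (nw D F w)⁻¹ * xg D F r t * nw D F w = xg D F (actW D w.reverse r) ((a : F) * t) := by
  have hlt := hG.actW_lt (fun i hi => hw i (List.mem_reverse.1 hi)) hr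
  set e : ℤ := etaWord D w (actW D w.reverse r)
  have he : ((e : ℤ) : F) * (e : F) = 1 := by rw [← Int.cast_mul, Good.etaWord_sq, Int.cast_one]
  refine ⟨Units.mk _ _ he he, ?_⟩
  have h := hG.nw_conj_x (F := F) hw hlt ((e : F) * t)
  rw [hG.actW_reverse hw hr, ← mul_assoc, he, one_mul] at h
  rw [← h]
  group

/-- Where a monomial element carries a root. -/
theorem monomial_conj_x {h : GL D.Idx F} (hh : h ∈ D.diagonalSubgroup F) {w : List ℕ}
    (hw : ∀ i ∈ w, i < D.rank) {r : ℕ} (hr : r < D.nroots) (t : F) :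
    ∃ a : Fˣ, (h * nw D F w)⁻¹ * xg D F r t * (h * nw D F w) =
      xg D F (actW D w.reverse r) ((a : F) * t) := by
  obtain ⟨a, ha⟩ := diag_conj_x hG (inv_mem hh) hr t
  obtain ⟨b, hb⟩ := nw_inv_conj_x hG hw hr ((a : F) * t)
  refine ⟨b * a, ?_⟩
  rw [Units.val_mul, mul_assoc (b : F), ← hb, ← ha]
  group

theorem monomial_conj_mem_iff {h : GL D.Idx F} (hh : h ∈ D.diagonalSubgroup F) {w : List ℕ}
    (hw : ∀ i ∈ w, i < D.rank) {r : ℕ} (hr : r < D.nroots) {t : F} (ht0 : t ≠ 0) :
    (h * nw D F w)⁻¹ * xg D F r t * (h * nw D F w) ∈ D.posUnipotent F ↔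
      0 < ht D (actW D w.reverse r) := by
  obtain ⟨a, ha⟩ := monomial_conj_x hG hh hw hr t
  rw [ha]
  exact xg_mem_pos_iff hG (hG.actW_lt (fun i hi => hw i (List.mem_reverse.1 hi)) hr)
    (mul_ne_zero a.ne_zero ht0)

/-- In characteristic `p` the elements of `p`-power order of the Borel group are unipotent. -/
theorem mem_pos_of_pow (p : ℕ) [Fact p.Prime] [CharP F p] {b : GL D.Idx F}
    (hb : b ∈ D.borelSubgroup F) {e : ℕ} (he : b ^ p ^ e = 1) : b ∈ D.posUnipotent F := by
  refine hG.diag_one_mem_pos hb fun a => ?_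
  have hpow : ∀ j : ℕ, ((b ^ j : GL D.Idx F) : Matrix D.Idx D.Idx F) a a =
      ((b : Matrix D.Idx D.Idx F) a a) ^ j := by
    intro j
    induction j with
    | zero => simp
    | succ j ih => rw [pow_succ, hG.borel_diag_mul (pow_mem hb j) hb, ih, pow_succ]
  have h1 := hpow (p ^ e)
  rw [he, Units.val_one, Matrix.one_apply_eq] at h1
  exact iterateFrobenius_inj F p e (by simpa [iterateFrobenius_def] using h1.symm)

/-- The fundamental negative roots apart. -/
theorem simple_le_normalizer_neg (hC : CommGood D) {i : ℕ} (hi : i < D.rank) (t : F) :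
    xg D F (D.neg (D.simple i)) t ∈ Subgroup.normalizer
      (XS D F {r | ht D r ≤ -1 ∧ r ≠ D.neg (D.simple i)} : Set (GL D.Idx F)) := by
  have hsi := hG.simple_lt hi
  refine hC.xg_mem_normalizer (hG.neg_lt hsi) (fun s hs hsS => ?_) t
  obtain ⟨hs1, hs2⟩ : ht D s ≤ -1 ∧ s ≠ D.neg (D.simple i) := hsS
  refine ⟨?_, fun _ c hc => ?_⟩
  · rw [hG.neg_neg hsi]
    intro h
    rw [h, hG.ht_simple hi] at hs1
    omega
  obtain ⟨hc0, hc1, hc2, hc3⟩ := hC.toGood.commTerms_coef (hG.neg_lt hsi) hs hc
  have hsn := hG.neg_lt hs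
  obtain ⟨k, hk, hki, hkpos⟩ := hG.exists_coef_pos_ne hsn (by rw [hG.ht_neg hs]; omega) hi
    (fun e => hs2 (by rw [← hG.neg_neg hs, e]))
  rw [hG.coef_neg hs hk] at hkpos
  have hck : coef D c.1 k < 0 := by
    rw [hc3 k hk, hG.coef_neg hsi hk, hG.coef_simple hi hk, if_neg hki, _root_.neg_zero, mul_zero,
      zero_add]
    have : (1 : ℤ) ≤ (c.2.2.2 : ℤ) := by exact_mod_cast hc2
    nlinarith
  refine ⟨?_, fun e => ?_⟩
  · show ht D c.1 ≤ -1
    by_contra hn
    have := hG.coef_nonneg hc0 (by have := hG.ht_ne_zero hc0; omega) hk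
    omega
  · rw [e, hG.coef_neg hsi hk, hG.coef_simple hi hk, if_neg hki] at hck
    omega

end Cfsg.Agent.CurtisRichen82.Chev
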