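import Cfsg.Agent.CurtisRichen82.Setting
import Cfsg.Agent.CurtisRichen82.Chev.Roots
import Cfsg.Agent.SteinbergCount82.Chev

/-!
The Chevalley groups as instances of the setting of Curtis and Richen.
-/

set_option autoImplicit false

namespace Cfsg.Agent.CurtisRichen82.Chev

open Cfsg.Lie Cfsg.Agent.ChevCore
open scoped Classical

universe u

variable {D : ChevalleyDatum} {F : Type u} [Field F]

/-- A root group as a subgroup. -/
noncomputable def rootG (hG : Good D) (r : ℕ) : Subgroup (GL D.Idx F) where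
  carrier := Set.range (xg D F r)
  one_mem' := ⟨0, hG.xg_zero r⟩
  mul_mem' := by rintro _ _ ⟨s, rfl⟩ ⟨t, rfl⟩; exact ⟨s + t, hG.xg_add r s t⟩
  inv_mem' := by rintro _ ⟨t, rfl⟩; exact ⟨-t, (hG.xg_inv r t).symm⟩

theorem mem_rootG {hG : Good D} {r : ℕ} {g : GL D.Idx F} :
    g ∈ rootG hG r ↔ ∃ t, xg D F r t = g := Iff.rfl

/-- The positive roots sent to negative ones. -/
noncomputable def rankOf (D : ChevalleyDatum) (F : Type u) [Field F] (m : GL D.Idx F) : ℕ :=
  ((Finset.range D.nroots).filter fun r =>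
    1 ≤ ht D r ∧ m⁻¹ * xg D F r 1 * m ∉ D.posUnipotent F).card

variable (hD : D ∈ [chevG2, chevB2, chevD4, chevF4, chevE6, chevE7, chevE8])

include hD

theorem unique_GL [Fintype F] (p : ℕ) [Fact p.Prime] [CharP F p] {u m u' : GL D.Idx F}
    (hu : u ∈ D.posUnipotent F) (hm : m ∈ D.monomialSubgroup F) (hu' : u' ∈ D.posUnipotent F)
    (h : u * m * u' ∈ D.monomialSubgroup F) : u * m * u' = m := by
  have hC := commGood_of_mem hD
  have hG := hC.toGood
  obtain ⟨T, -, -⟩ := exists_model hD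
  have hk' : m⁻¹ * (u * m * u') ∈ D.diagonalSubgroup F := by
    let Kc : Cfsg.Agent.ChevGroup.Rels D F := Cfsg.Agent.Chev54.rels hC F
    set e := u * m * u' with he
    have hbu : u ∈ D.borelSubgroup F := Subgroup.mem_sup_left hu
    have hbu' : u'⁻¹ ∈ D.borelSubgroup F := Subgroup.mem_sup_left (inv_mem hu')
    have hee : u * m = e * u'⁻¹ := by rw [he, mul_inv_cancel_right]
    rw [← T.B_map Kc] at hbu hbu'
    rw [← N_map T hC] at hm h
    obtain ⟨b, hb, hb1⟩ := hbu
    obtain ⟨c, hc, hc1⟩ := hbu'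
    obtain ⟨n, hn, hn1⟩ := hm
    obtain ⟨n', hn', hn1'⟩ := h
    have heq : b * n = n' * c := Subtype.ext (by
      rw [Subgroup.coe_mul, Subgroup.coe_mul]
      show (D.group F).subtype b * (D.group F).subtype n =
        (D.group F).subtype n' * (D.group F).subtype c
      rw [hb1, hn1, hn1', hc1, hee])
    have hk : n⁻¹ * n' ∈ (T.rel Kc).H :=
      Cfsg.Agent.ChevNormal82.unique_N (T.shapeR Kc)
        (fun q hq => Cfsg.Agent.ChevNormal82.pres_pos T Kc hq) hn hn' hb hc heq
    rw [← T.H_map Kc]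
    refine ⟨n⁻¹ * n', hk, ?_⟩
    rw [map_mul, map_inv, hn1, hn1']
  set k := m⁻¹ * (u * m * u') with hkdef
  obtain ⟨f, -, hq⟩ := FiniteField.card F p
  have hcard : Nat.card (D.posUnipotent F) = p ^ ((f : ℕ) * (D.nroots / 2)) := by
    rw [(uGood_of_mem hD).card_posUnipotent, hq, pow_mul]
  obtain ⟨e, he⟩ := (IsPGroup.of_card hcard) ⟨u, hu⟩
  have hy : m⁻¹ * u * m ∈ D.posUnipotent F := by
    refine mem_pos_of_pow hG p ?_ (e := e) ?_
    · rw [show m⁻¹ * u * m = k * u'⁻¹ by rw [hkdef]; group]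
      exact mul_mem (Subgroup.mem_sup_right hk') (Subgroup.mem_sup_left (inv_mem hu'))
    · have he' : u ^ p ^ e = 1 := congrArg Subtype.val he
      have := conj_pow (i := p ^ e) (a := m⁻¹) (b := u)
      rw [inv_inv] at this
      rw [this, he', mul_one, inv_mul_cancel]
  have hk1 : k = 1 := by
    have hmem : k ∈ D.posUnipotent F ⊓ D.diagonalSubgroup F := by
      refine ⟨?_, hk'⟩
      rw [show k = (m⁻¹ * u * m) * u' by rw [hkdef]; group]
      exact mul_mem hy hu'
    rwa [hG.pos_inf_H, Subgroup.mem_bot] at hmem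
  calc u * m * u' = m * k := by rw [hkdef]; group
    _ = m := by rw [hk1, mul_one]

theorem factU_GL {i : ℕ} (hi : i < D.rank) {g : GL D.Idx F} (hg : g ∈ D.posUnipotent F) :
    ∃ t, ∃ v ∈ XS D F (posExcept D i), g = xg D F (D.simple i) t * v := by
  have hC := commGood_of_mem hD
  have hG := hC.toGood
  have hp := hG.simple_lt hi
  have hN : rootG hG (D.simple i) ≤
      Subgroup.normalizer (XS D F (posExcept D i) : Set (GL D.Idx F)) := by
    rintro _ ⟨t, rfl⟩
    exact hC.simple_le_normalizer hi (Or.inl rfl) t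
  have hle : D.posUnipotent F ≤ rootG hG (D.simple i) ⊔ XS D F (posExcept D i) := by
    rw [hG.posUnipotent_eq]
    refine XS_le fun r t hr h => ?_
    by_cases h' : r = D.simple i
    · exact Subgroup.mem_sup_left ⟨t, by rw [h']⟩
    · exact Subgroup.mem_sup_right (xg_mem_XS hr (show r ∈ posExcept D i from ⟨h, h'⟩) t)
  have := hle hg
  rw [← SetLike.mem_coe, Subgroup.coe_mul_of_left_le_normalizer_right _ _ hN] at this
  obtain ⟨_, ⟨t, rfl⟩, v, hv, rfl⟩ := this
  exact ⟨t, v, hv, rfl⟩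

theorem factV_GL {i : ℕ} (hi : i < D.rank) {g : GL D.Idx F} (hg : g ∈ D.negUnipotent F) :
    ∃ w, ng D F (D.simple i) 1 * w * (ng D F (D.simple i) 1)⁻¹ ∈ D.negUnipotent F ∧
      ∃ t, g = w * xg D F (D.neg (D.simple i)) t := by
  have hC := commGood_of_mem hD
  have hG := hC.toGood
  set S : Set ℕ := {r | ht D r ≤ -1 ∧ r ≠ D.neg (D.simple i)}
  have hN : rootG hG (D.neg (D.simple i)) ≤
      Subgroup.normalizer (XS D F S : Set (GL D.Idx F)) := by
    rintro _ ⟨t, rfl⟩
    exact simple_le_normalizer_neg hG hC hi t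
  have hle : D.negUnipotent F ≤ XS D F S ⊔ rootG hG (D.neg (D.simple i)) := by
    rw [hG.negUnipotent_eq]
    refine XS_le fun r t hr h => ?_
    by_cases h' : r = D.neg (D.simple i)
    · exact Subgroup.mem_sup_right ⟨t, by rw [h']⟩
    · exact Subgroup.mem_sup_left (xg_mem_XS hr (show r ∈ S from ⟨h, h'⟩) t)
  have := hle hg
  rw [← SetLike.mem_coe, Subgroup.coe_mul_of_right_le_normalizer_left _ _ hN] at this
  obtain ⟨w, hw, _, ⟨t, rfl⟩, rfl⟩ := this
  refine ⟨w, ?_, t, rfl⟩
  have hle' : XS D F S ≤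
      (D.negUnipotent F).comap (MulAut.conj (ng D F (D.simple i) 1)).toMonoidHom := by
    refine XS_le fun r t hr h => ?_
    show ng D F (D.simple i) 1 * xg D F r t * (ng D F (D.simple i) 1)⁻¹ ∈ D.negUnipotent F
    rw [hG.ng_conj_x hi hr, hG.negUnipotent_eq]
    refine xg_mem_XS (hG.refl_lt hi hr) ?_ _
    show ht D (D.reflectRoot i r) ≤ -1
    obtain ⟨h1, h2⟩ : ht D r ≤ -1 ∧ r ≠ D.neg (D.simple i) := h
    have h3 := hG.refl_pos hi (hG.neg_lt hr) (by rw [hG.ht_neg hr]; omega)
      (fun e => h2 (by rw [← e, hG.neg_neg hr]))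
    rw [hG.refl_neg hi hr, hG.ht_neg (hG.refl_lt hi hr)] at h3
    omega
  exact hle' hw

omit hD in
theorem ng_neg_eq (hG : Good D) {i : ℕ} (u : F) (hu : u ≠ 0) :
    xg D F (D.neg (D.simple i)) (-u) = xg D F (D.simple i) (-u⁻¹) *
      (hg D F (D.simple i) u⁻¹ * ng D F (D.simple i) 1) * xg D F (D.simple i) (-u⁻¹) := by
  rw [← hG.ng_eq_hg_mul, show ng D F (D.simple i) u⁻¹ = xg D F (D.simple i) u⁻¹ *
    xg D F (D.neg (D.simple i)) (-(u⁻¹)⁻¹) * xg D F (D.simple i) u⁻¹ from rfl, inv_inv,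
    ← hG.xg_inv (D.simple i) u⁻¹]
  group

variable [Fintype F] (p : ℕ) [Fact p.Prime] [CharP F p]

/-- The setting of a Chevalley group. -/
theorem exists_setting : ∃ S : Setting ↥(D.group F) (Fin D.rank) p,
    S.U = (D.posUnipotent F).subgroupOf (D.group F) ∧
    S.H = (D.diagonalSubgroup F).subgroupOf (D.group F) ∧
    S.N = (D.monomialSubgroup F).subgroupOf (D.group F) ∧
    (∀ i : Fin D.rank, ((S.n i : ↥(D.group F)) : GL D.Idx F) = ng D F (D.simple i.val) 1) ∧
    (∀ i : Fin D.rank, ∀ a : ↥(D.group F), a ∈ S.X i ↔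
      ∃ t, xg D F (D.simple i.val) t = (a : GL D.Idx F)) ∧
    ∃ w0 : List ℕ, (∀ i ∈ w0, i < D.rank) ∧ ((S.z : ↥(D.group F)) : GL D.Idx F) = nw D F w0 ∧
      ∀ r < D.nroots, 1 ≤ ht D r → ht D (actW D w0.reverse r) ≤ -1 := by
  have hC := commGood_of_mem hD
  have hG := hC.toGood
  obtain ⟨w0, hw0', hneg⟩ := SteinbergCount82.exists_word_neg hG (Set.univ : Set ℕ)
  have hw0 : ∀ i ∈ w0, i < D.rank := fun i hi => (hw0' i hi).1
  have hneg' : ∀ r < D.nroots, 1 ≤ ht D r → ht D (actW D w0 r) ≤ -1 := fun r hr h =>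
    hneg r hr h fun i _ hi => absurd (Set.mem_univ i) hi
  have hrev : ∀ i ∈ w0.reverse, i < D.rank := fun i hi => hw0 i (List.mem_reverse.1 hi)
  have hnegrev : ∀ r < D.nroots, 1 ≤ ht D r → ht D (actW D w0.reverse r) ≤ -1 := by
    intro r hr h
    by_contra hn
    have hlt := hG.actW_lt hrev hr
    have h2 := hneg' _ hlt (by have := hG.ht_ne_zero hlt; omega)
    rw [hG.actW_reverse hw0 hr] at h2
    omega
  have hsimple : ∀ i : Fin D.rank, D.simple i.val < D.nroots := fun i => hG.simple_lt i.isLt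
  have hU : ∀ i : Fin D.rank, ∀ t, xg D F (D.simple i.val) t ∈ D.posUnipotent F := fun i t => by
    rw [hG.posUnipotent_eq]
    exact xg_mem_XS (hsimple i) (show 1 ≤ ht D _ by rw [hG.ht_simple i.isLt]) t
  have hng : ∀ i : Fin D.rank, ng D F (D.simple i.val) 1 ∈ D.group F := fun i =>
    hG.ng_mem_group _ _
  have hNn : ∀ i : Fin D.rank, ng D F (D.simple i.val) 1 ∈ D.monomialSubgroup F := fun i => by
    simpa [nw] using hG.nw_mem_N (F := F) (w := [i.val]) (by simp)
  have hconjH : ∀ m ∈ D.monomialSubgroup F, ∀ h ∈ D.diagonalSubgroup F,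
      m * h * m⁻¹ ∈ D.diagonalSubgroup F := by
    intro m hm h hh
    obtain ⟨k, hk, w, hw, rfl⟩ := exists_monomial_form hG hm
    rw [show k * nw D F w * h * (k * nw D F w)⁻¹ = k * (nw D F w * h * (nw D F w)⁻¹) * k⁻¹ by group]
    refine mul_mem (mul_mem hk ?_) (inv_mem hk)
    clear hm hk
    induction w with
    | nil => simpa [nw] using hh
    | cons j v ih =>
      obtain ⟨a, ha⟩ := n_conj_diag hG (hw j (by simp)) (ih fun l hl => hw l (by simp [hl]))
      rw [Good.actW_cons_supp, show ng D F (D.simple j) 1 * nw D F v * h *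
        (ng D F (D.simple j) 1 * nw D F v)⁻¹ = ng D F (D.simple j) 1 *
          (nw D F v * h * (nw D F v)⁻¹) * (ng D F (D.simple j) 1)⁻¹ by group, ha]
      exact mul_mem (ih fun l hl => hw l (by simp [hl]))
        (hG.hg_mem_H (hG.simple_lt (hw j (by simp))) a.ne_zero)
  have hNX : ∀ {S : Set ℕ} {h g : GL D.Idx F}, h ∈ D.diagonalSubgroup F → g ∈ XS D F S →
      h * g * h⁻¹ ∈ XS D F S := fun {S h g} hh hg =>
    (Subgroup.mem_normalizer_iff.1 (hG.H_le_normalizer_XS S hh) g).1 hg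
  have hconj : ∀ i : Fin D.rank, ∀ t, ng D F (D.simple i.val) 1 * xg D F (D.simple i.val) t *
      (ng D F (D.simple i.val) 1)⁻¹ = xg D F (D.neg (D.simple i.val)) (-t) := fun i t =>
    hG.ng_simple_conj i.isLt (one_mul 1) t
  have hconj' : ∀ i : Fin D.rank, ∀ t, (ng D F (D.simple i.val) 1)⁻¹ * xg D F (D.simple i.val) t *
      ng D F (D.simple i.val) 1 = xg D F (D.neg (D.simple i.val)) (-t) := fun i t => by
    have h := hG.ng_simple_conj (F := F) i.isLt (e := -1) (by ring) t
    rw [← hG.ng_inv, inv_inv] at h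
    exact h
  refine ⟨
    { U := (D.posUnipotent F).subgroupOf (D.group F)
      V := (D.negUnipotent F).subgroupOf (D.group F)
      H := (D.diagonalSubgroup F).subgroupOf (D.group F)
      N := (D.monomialSubgroup F).subgroupOf (D.group F)
      n := fun i => ⟨ng D F (D.simple i.val) 1, hng i⟩
      X := fun i => (rootG hG (D.simple i.val)).subgroupOf (D.group F)
      Y := fun i => (rootG hG (D.neg (D.simple i.val))).subgroupOf (D.group F)
      U' := fun i => (XS D F (posExcept D i.val)).subgroupOf (D.group F)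
      z := ⟨nw D F w0, hG.monomialSubgroup_le_group (hG.nw_mem_N hw0)⟩
      rank := fun m => rankOf D F (m : GL D.Idx F)
      H_le_N := fun h hh => Subgroup.mem_sup_left (hh : (h : GL D.Idx F) ∈ D.diagonalSubgroup F)
      n_mem := hNn
      H_comm := ?_
      conj_H := fun m hm h hh => hconjH _ hm _ hh
      H_conj_U := ?_
      H_conj_V := ?_
      X_le := ?_
      Y_le := ?_
      conj_X := ?_
      conj_X' := ?_
      sq_mem := ?_
      factU := ?_
      disjU := ?_
      conj_U' := ?_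
      factV := ?_
      big := ?_
      z_mem := hG.nw_mem_N hw0
      zU := ?_
      zV := ?_
      cover := ?_
      unique := fun u hu m hm u' hu' h => Subtype.ext (unique_GL hD p hu hm hu' h)
      gen := ?_
      rank_lt := ?_
      dich := ?_
      dvd_card := ?_
      pgroup := ?_ }, rfl, rfl, rfl, fun i => rfl, fun i a => Iff.rfl, w0, hw0, rfl, hnegrev⟩
  · -- gen
    set C := Subgroup.closure
      (((D.negUnipotent F).subgroupOf (D.group F) : Set ↥(D.group F)) ∪
        ((D.diagonalSubgroup F).subgroupOf (D.group F) : Set ↥(D.group F)) ∪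
        Set.range fun i : Fin D.rank => (⟨ng D F (D.simple i.val) 1, hng i⟩ : ↥(D.group F)))
    have hV : D.negUnipotent F ≤ C.map (D.group F).subtype := fun v hv =>
      ⟨⟨v, hG.negUnipotent_le_group hv⟩, Subgroup.subset_closure (Or.inl (Or.inl hv)), rfl⟩
    have hn : ∀ w : List ℕ, (∀ i ∈ w, i < D.rank) → nw D F w ∈ C.map (D.group F).subtype := by
      intro w
      induction w with
      | nil => intro _; simpa [nw] using one_mem (C.map (D.group F).subtype)
      | cons i w ih =>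
        intro hw
        rw [Good.actW_cons_supp]
        exact mul_mem ⟨⟨_, hng ⟨i, hw i (by simp)⟩⟩,
          Subgroup.subset_closure (Or.inr ⟨⟨i, hw i (by simp)⟩, rfl⟩), rfl⟩
          (ih fun j hj => hw j (by simp [hj]))
    have hU' : D.posUnipotent F ≤ C.map (D.group F).subtype := by
      rw [hG.posUnipotent_eq]
      refine XS_le fun r t hr h => ?_
      have hrr : 1 ≤ ht D r := h
      have hlt := hG.actW_lt hw0 hr
      have hm : nw D F w0 * xg D F r t * (nw D F w0)⁻¹ ∈ C.map (D.group F).subtype := by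
        refine hV ?_
        rw [hG.nw_conj_x hw0 hr, hG.negUnipotent_eq]
        exact xg_mem_XS hlt (show _ ∈ {r | ht D r ≤ -1} from hneg' r hr hrr) _
      have := mul_mem (mul_mem (inv_mem (hn w0 hw0)) hm) (hn w0 hw0)
      simpa [mul_assoc] using this
    rw [eq_top_iff]
    intro g _
    have : (g : GL D.Idx F) ∈ C.map (D.group F).subtype := by
      have hle := sup_le hU' hV
      rw [hG.pos_sup_neg] at hle
      exact hle g.2
    obtain ⟨y, hy, e⟩ := this
    rwa [show g = y from Subtype.ext e.symm]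
  · -- H_comm
    intro a ha b hb
    have ha' : (a : GL D.Idx F) ∈ (tau D F).range := by
      rw [← hG.diagonalSubgroup_eq_range]; exact ha
    have hb' : (b : GL D.Idx F) ∈ (tau D F).range := by
      rw [← hG.diagonalSubgroup_eq_range]; exact hb
    obtain ⟨c, hc⟩ := ha'
    obtain ⟨d, hd⟩ := hb'
    refine Subtype.ext ?_
    rw [Subgroup.coe_mul, Subgroup.coe_mul, ← hc, ← hd, ← map_mul, mul_comm, map_mul]
  · intro h hh u hu
    show (h : GL D.Idx F) * u * (h : GL D.Idx F)⁻¹ ∈ D.posUnipotent F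
    have hu' : (u : GL D.Idx F) ∈ D.posUnipotent F := hu
    rw [hG.posUnipotent_eq] at hu' ⊢
    exact hNX hh hu'
  · intro h hh u hu
    show (h : GL D.Idx F) * u * (h : GL D.Idx F)⁻¹ ∈ D.negUnipotent F
    have hu' : (u : GL D.Idx F) ∈ D.negUnipotent F := hu
    rw [hG.negUnipotent_eq] at hu' ⊢
    exact hNX hh hu'
  · rintro i a ⟨t, hat⟩
    show (a : GL D.Idx F) ∈ D.posUnipotent F
    rw [show (a : GL D.Idx F) = xg D F (D.simple i.val) t from hat.symm]; exact hU i t
  · rintro i a ⟨t, hat⟩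
    show (a : GL D.Idx F) ∈ D.negUnipotent F
    rw [← (show xg D F (D.neg (D.simple i.val)) t = (a : GL D.Idx F) from hat), hG.negUnipotent_eq]
    exact xg_mem_XS (hG.neg_lt (hsimple i))
      (show ht D _ ≤ -1 by rw [hG.ht_neg (hsimple i), hG.ht_simple i.isLt]) t
  · rintro i a ⟨t, hat⟩
    exact ⟨-t, (hconj i t).symm.trans (by rw [hat]; rfl)⟩
  · rintro i a ⟨t, hat⟩
    exact ⟨-t, (hconj' i t).symm.trans (by rw [hat]; rfl)⟩
  · intro i
    show ng D F (D.simple i.val) 1 * ng D F (D.simple i.val) 1 ∈ D.diagonalSubgroup F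
    rw [n_mul_n hG]
    exact inv_mem (hG.hg_mem_H (hsimple i) (by simp))
  · intro i u hu
    obtain ⟨t, v, hv, e⟩ := factU_GL hD i.isLt (g := (u : GL D.Idx F)) hu
    exact ⟨⟨_, hG.posUnipotent_le_group (hU i t)⟩, ⟨t, rfl⟩,
      ⟨v, (show xg D F (D.simple i.val) t * v ∈ D.group F from e ▸ u.2) |> fun h => by
        have := mul_mem (inv_mem (hG.posUnipotent_le_group (hU i t))) h
        rwa [inv_mul_cancel_left] at this⟩, hv, Subtype.ext e⟩
  · rintro i a ⟨t, hat⟩ hv
    refine Subtype.ext ?_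
    have hle : XS D F (posExcept D i.val) ≤ (D.posUnipotent F).comap
        (MulAut.conj (ng D F (D.simple i.val) 1)).toMonoidHom := by
      refine XS_le fun r s hr h => ?_
      show ng D F (D.simple i.val) 1 * xg D F r s * (ng D F (D.simple i.val) 1)⁻¹ ∈ D.posUnipotent F
      rw [hG.ng_conj_x i.isLt hr, hG.posUnipotent_eq]
      obtain ⟨h1, h2⟩ : 1 ≤ ht D r ∧ r ≠ D.simple i.val := h
      have h3 := hG.refl_pos i.isLt hr (by omega) h2
      exact xg_mem_XS (hG.refl_lt i.isLt hr) (show 1 ≤ ht D _ by omega) _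
    have h1 : ng D F (D.simple i.val) 1 * xg D F (D.simple i.val) t *
        (ng D F (D.simple i.val) 1)⁻¹ ∈ D.borelSubgroup F ⊓ D.negUnipotent F := by
      refine ⟨Subgroup.mem_sup_left ?_, ?_⟩
      · rw [show xg D F (D.simple i.val) t = (a : GL D.Idx F) from hat]
        exact hle hv
      · rw [hconj, hG.negUnipotent_eq]
        exact xg_mem_XS (hG.neg_lt (hsimple i))
          (show ht D _ ≤ -1 by rw [hG.ht_neg (hsimple i), hG.ht_simple i.isLt]) _
    rw [hG.borel_inf_neg, Subgroup.mem_bot, conj_eq_one_iff] at h1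
    exact hat.symm.trans h1
  · intro i v hv
    show (ng D F (D.simple i.val) 1)⁻¹ * (v : GL D.Idx F) * ng D F (D.simple i.val) 1 ∈
      D.posUnipotent F
    have hle : XS D F (posExcept D i.val) ≤ (D.posUnipotent F).comap
        (MulAut.conj (ng D F (D.simple i.val) 1)⁻¹).toMonoidHom := by
      refine XS_le fun r s hr h => ?_
      show (ng D F (D.simple i.val) 1)⁻¹ * xg D F r s * (ng D F (D.simple i.val) 1)⁻¹⁻¹ ∈
        D.posUnipotent F
      obtain ⟨a, ha⟩ := nw_inv_conj_x hG (F := F) (w := [i.val]) (by simp) hr s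
      simp only [nw, List.map_cons, List.map_nil, List.prod_cons, List.prod_nil, mul_one,
        List.reverse_singleton, actW_cons, actW_nil] at ha
      rw [inv_inv, ha, hG.posUnipotent_eq]
      obtain ⟨h1, h2⟩ : 1 ≤ ht D r ∧ r ≠ D.simple i.val := h
      have h3 := hG.refl_pos i.isLt hr (by omega) h2
      exact xg_mem_XS (hG.refl_lt i.isLt hr) (show 1 ≤ ht D _ by omega) _
    have h' := hle hv
    simpa using h'
  · intro i v hv
    obtain ⟨w, hw, t, e⟩ := factV_GL hD i.isLt (g := (v : GL D.Idx F)) hv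
    have hwg : w ∈ D.group F := by
      have := mul_mem (mul_mem (inv_mem (hng i)) (hG.negUnipotent_le_group hw)) (hng i)
      simpa [mul_assoc] using this
    exact ⟨⟨w, hwg⟩, hw, ⟨xg D F (D.neg (D.simple i.val)) t, hG.xg_mem_group _ _⟩, ⟨t, rfl⟩,
      Subtype.ext e⟩
  · rintro i y ⟨s, hs⟩ hne
    have hs0 : s ≠ 0 := by
      rintro rfl
      exact hne (Subtype.ext (hs.symm.trans (hG.xg_zero _)))
    set u := -s
    have hu : u ≠ 0 := neg_ne_zero.2 hs0
    obtain ⟨a, ha⟩ : ∃ a : Fˣ, hg D F (D.simple i.val) u⁻¹ * ng D F (D.simple i.val) 1 =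
        ng D F (D.simple i.val) 1 * (hg D F (D.simple i.val) u⁻¹ * hg D F (D.simple i.val) (a : F)) := by
      have hh := hG.hg_mem_H (F := F) (hsimple i) (inv_ne_zero hu)
      set n := ng D F (D.simple i.val) 1
      set h := hg D F (D.simple i.val) u⁻¹
      have hmem : n⁻¹ * h * n ∈ D.diagonalSubgroup F := by
        have := hconjH _ (inv_mem (hNn i)) _ hh
        rwa [inv_inv] at this
      obtain ⟨b, hb⟩ := n_conj_diag hG i.isLt hmem
      rw [show n * (n⁻¹ * h * n) * n⁻¹ = h by group] at hb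
      refine ⟨b⁻¹, ?_⟩
      have hinv : hg D F (D.simple i.val) ((b⁻¹ : Fˣ) : F) = (hg D F (D.simple i.val) (b : F))⁻¹ := by
        refine eq_inv_of_mul_eq_one_left ?_
        rw [hG.hg_mul (hsimple i) (b⁻¹).ne_zero b.ne_zero, ← Units.val_mul, inv_mul_cancel,
          Units.val_one, hG.hg_one_simple i.isLt]
      rw [hinv, show h * (hg D F (D.simple i.val) (b : F))⁻¹ = n⁻¹ * h * n by
        conv_lhs => arg 1; rw [hb]
        group]
      group
    refine ⟨⟨xg D F (D.simple i.val) (-u⁻¹), hG.xg_mem_group _ _⟩, ⟨_, rfl⟩,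
      ⟨hg D F (D.simple i.val) u⁻¹ * hg D F (D.simple i.val) (a : F),
        mul_mem (hG.hg_mem_group _ _) (hG.hg_mem_group _ _)⟩,
      mul_mem (hG.hg_mem_H (hsimple i) (inv_ne_zero hu)) (hG.hg_mem_H (hsimple i) a.ne_zero),
      ⟨xg D F (D.simple i.val) (-u⁻¹), hG.xg_mem_group _ _⟩, ⟨_, rfl⟩, Subtype.ext ?_⟩
    show (y : GL D.Idx F) = xg D F (D.simple i.val) (-u⁻¹) * ng D F (D.simple i.val) 1 *
      (hg D F (D.simple i.val) u⁻¹ * hg D F (D.simple i.val) (a : F)) *
        xg D F (D.simple i.val) (-u⁻¹)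
    rw [mul_assoc (xg D F (D.simple i.val) (-u⁻¹)), ← ha, ← ng_neg_eq hG u hu, neg_neg]
    exact hs.symm
  · intro u hu
    show nw D F w0 * (u : GL D.Idx F) * (nw D F w0)⁻¹ ∈ D.negUnipotent F
    have hle : D.posUnipotent F ≤
        (D.negUnipotent F).comap (MulAut.conj (nw D F w0)).toMonoidHom := by
      rw [hG.posUnipotent_eq]
      refine XS_le fun r t hr h => ?_
      show nw D F w0 * xg D F r t * (nw D F w0)⁻¹ ∈ D.negUnipotent F
      rw [hG.nw_conj_x hw0 hr, hG.negUnipotent_eq]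
      exact xg_mem_XS (hG.actW_lt hw0 hr) (show _ ∈ {r | ht D r ≤ -1} from hneg' r hr h) _
    exact hle hu
  · intro v hv
    show (nw D F w0)⁻¹ * (v : GL D.Idx F) * nw D F w0 ∈ D.posUnipotent F
    have hle : D.negUnipotent F ≤
        (D.posUnipotent F).comap (MulAut.conj (nw D F w0)⁻¹).toMonoidHom := by
      rw [hG.negUnipotent_eq]
      refine XS_le fun r t hr h => ?_
      show (nw D F w0)⁻¹ * xg D F r t * (nw D F w0)⁻¹⁻¹ ∈ D.posUnipotent F
      obtain ⟨a, ha⟩ := nw_inv_conj_x hG (F := F) hw0 hr t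
      rw [inv_inv, ha, hG.posUnipotent_eq]
      have hr1 : ht D r ≤ -1 := h
      have h1 := hnegrev (D.neg r) (hG.neg_lt hr) (by rw [hG.ht_neg hr]; omega)
      rw [hG.actW_neg hrev hr, hG.ht_neg (hG.actW_lt hrev hr)] at h1
      exact xg_mem_XS (hG.actW_lt hrev hr) (show 1 ≤ ht D _ by omega) _
    have h' := hle hv
    simpa using h'
  · -- cover
    intro g
    obtain ⟨b, hb, w, hw, -, b', hb', e⟩ := exists_bruhat_mem hD g.2
    obtain ⟨u, hu, h, hh, rfl⟩ := hG.mem_borel hb
    obtain ⟨v, hv, k, hk, rfl⟩ := hG.mem_borel hb'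
    have hm : h * nw D F w * k ∈ D.monomialSubgroup F :=
      mul_mem (mul_mem (Subgroup.mem_sup_left hh) (hG.nw_mem_N hw)) (Subgroup.mem_sup_left hk)
    have hv' : k⁻¹ * v * k ∈ D.posUnipotent F := by
      rw [hG.posUnipotent_eq] at hv ⊢
      have := hNX (inv_mem hk) hv
      rwa [inv_inv] at this
    exact ⟨⟨u, hG.posUnipotent_le_group hu⟩, hu, ⟨_, hG.monomialSubgroup_le_group hm⟩, hm,
      ⟨_, hG.posUnipotent_le_group hv'⟩, hv', Subtype.ext (e.trans (by
        show u * h * nw D F w * (v * k) = u * (h * nw D F w * k) * (k⁻¹ * v * k)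
        group))⟩
  · -- rank_lt
    intro i m hm hdn
    obtain ⟨h, hh, w, hw, hme⟩ := exists_monomial_form hG (m := (m : GL D.Idx F)) hm
    have hrevw : ∀ j ∈ w.reverse, j < D.rank := fun j hj => hw j (List.mem_reverse.1 hj)
    obtain ⟨t, ht0, hnot⟩ : ∃ t : F, t ≠ 0 ∧
        (m : GL D.Idx F)⁻¹ * xg D F (D.simple i.val) t * m ∉ D.posUnipotent F := by
      by_contra hcon
      push Not at hcon
      refine hdn ?_
      rintro a ⟨t, hat⟩
      show (m : GL D.Idx F)⁻¹ * (a : GL D.Idx F) * m ∈ D.posUnipotent F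
      rw [show (a : GL D.Idx F) = xg D F (D.simple i.val) t from hat.symm]
      by_cases ht0 : t = 0
      · rw [ht0, hG.xg_zero, mul_one, inv_mul_cancel]; exact one_mem _
      · exact hcon t ht0
    have hsneg : ht D (actW D w.reverse (D.simple i.val)) < 0 := by
      rw [hme, monomial_conj_mem_iff hG hh hw (hsimple i) ht0] at hnot
      have := hG.ht_ne_zero (hG.actW_lt hrevw (hsimple i))
      omega
    -- the translate
    have hiff : ∀ r < D.nroots,
        ((ng D F (D.simple i.val) 1)⁻¹ * (m : GL D.Idx F))⁻¹ * xg D F r 1 *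
          ((ng D F (D.simple i.val) 1)⁻¹ * m) ∈ D.posUnipotent F ↔
        (m : GL D.Idx F)⁻¹ * xg D F (D.reflectRoot i.val r) 1 * m ∈ D.posUnipotent F := by
      intro r hr
      rw [show ((ng D F (D.simple i.val) 1)⁻¹ * (m : GL D.Idx F))⁻¹ * xg D F r 1 *
          ((ng D F (D.simple i.val) 1)⁻¹ * m) = (m : GL D.Idx F)⁻¹ * (ng D F (D.simple i.val) 1 *
            xg D F r 1 * (ng D F (D.simple i.val) 1)⁻¹) * m by group,
        hG.ng_conj_x i.isLt hr, hme]
      rw [monomial_conj_mem_iff hG hh hw (hG.refl_lt i.isLt hr),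
        monomial_conj_mem_iff hG hh hw (hG.refl_lt i.isLt hr) one_ne_zero]
      rw [mul_one]
      rcases eta_eq_one_or D i.val r with e | e <;> rw [e] <;> simp
    show rankOf D F ((ng D F (D.simple i.val) 1)⁻¹ * (m : GL D.Idx F)) < rankOf D F m
    have hsub : ((Finset.range D.nroots).filter fun r => 1 ≤ ht D r ∧
        ((ng D F (D.simple i.val) 1)⁻¹ * (m : GL D.Idx F))⁻¹ * xg D F r 1 *
          ((ng D F (D.simple i.val) 1)⁻¹ * m) ∉ D.posUnipotent F) ⊆
        (((Finset.range D.nroots).filter fun r => 1 ≤ ht D r ∧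
          (m : GL D.Idx F)⁻¹ * xg D F r 1 * m ∉ D.posUnipotent F).erase (D.simple i.val)).image
            (D.reflectRoot i.val) := by
      intro r hr
      simp only [Finset.mem_filter, Finset.mem_range] at hr
      obtain ⟨hr, h1, h2⟩ := hr
      rw [hiff r hr] at h2
      have hne : r ≠ D.simple i.val := by
        rintro rfl
        rw [hG.refl_simple i.isLt, hme, monomial_conj_mem_iff hG hh hw (hG.neg_lt hr) one_ne_zero,
          hG.actW_neg hrevw hr, hG.ht_neg (hG.actW_lt hrevw hr)] at h2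
        omega
      refine Finset.mem_image.2 ⟨D.reflectRoot i.val r, Finset.mem_erase.2
        ⟨hG.refl_ne_simple i.isLt hr (by omega), ?_⟩, hG.refl_refl i.isLt hr⟩
      simp only [Finset.mem_filter, Finset.mem_range]
      have := hG.refl_pos i.isLt hr (by omega) hne
      exact ⟨hG.refl_lt i.isLt hr, by omega, h2⟩
    refine lt_of_le_of_lt (Finset.card_le_card hsub) (lt_of_le_of_lt Finset.card_image_le ?_)
    refine Finset.card_erase_lt_of_mem ?_
    simp only [Finset.mem_filter, Finset.mem_range]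
    refine ⟨hsimple i, by rw [hG.ht_simple i.isLt], ?_⟩
    rw [hme, monomial_conj_mem_iff hG hh hw (hsimple i) one_ne_zero]
    omega
  · -- dich
    intro i m hm hdn y hy
    obtain ⟨h, hh, w, hw, hme⟩ := exists_monomial_form hG (m := (m : GL D.Idx F)) hm
    have hrevw : ∀ j ∈ w.reverse, j < D.rank := fun j hj => hw j (List.mem_reverse.1 hj)
    obtain ⟨s, hs⟩ := hy
    show (m : GL D.Idx F)⁻¹ * (y : GL D.Idx F) * m ∈ D.posUnipotent F
    rw [show (y : GL D.Idx F) = xg D F (D.neg (D.simple i.val)) s from hs.symm]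
    by_cases hs0 : s = 0
    · rw [hs0, hG.xg_zero, mul_one, inv_mul_cancel]; exact one_mem _
    rw [hme, monomial_conj_mem_iff hG hh hw (hG.neg_lt (hsimple i)) hs0,
      hG.actW_neg hrevw (hsimple i), hG.ht_neg (hG.actW_lt hrevw (hsimple i))]
    by_contra hcon
    refine hdn ?_
    rintro a ⟨t, hat⟩
    show (m : GL D.Idx F)⁻¹ * (a : GL D.Idx F) * m ∈ D.posUnipotent F
    rw [show (a : GL D.Idx F) = xg D F (D.simple i.val) t from hat.symm]
    by_cases ht0 : t = 0
    · rw [ht0, hG.xg_zero, mul_one, inv_mul_cancel]; exact one_mem _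
    rw [hme, monomial_conj_mem_iff hG hh hw (hsimple i) ht0]
    have := hG.ht_ne_zero (hG.actW_lt hrevw (hsimple i))
    omega
  · intro i
    obtain ⟨f, -, hq⟩ := FiniteField.card F p
    rw [show Nat.card ↥((rootG hG (D.simple i.val)).subgroupOf (D.group F)) = Fintype.card F by
      rw [← Nat.card_eq_fintype_card]
      refine (Nat.card_congr (Equiv.ofBijective (fun t : F =>
        (⟨⟨xg D F (D.simple i.val) t, hG.xg_mem_group _ _⟩, ⟨t, rfl⟩⟩ :
          (rootG hG (D.simple i.val)).subgroupOf (D.group F))) ⟨fun a b e => ?_, ?_⟩)).symm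
      · exact hG.xg_injective (hsimple i) (congrArg (fun x => ((x.1 : ↥(D.group F)) : GL D.Idx F)) e)
      · rintro ⟨a, t, hat⟩
        exact ⟨t, Subtype.ext (Subtype.ext hat)⟩, hq]
    exact dvd_pow_self p f.pos.ne'
  · obtain ⟨f, -, hq⟩ := FiniteField.card F p
    refine IsPGroup.of_card (n := (f : ℕ) * (D.nroots / 2)) ?_
    rw [Nat.card_congr (Subgroup.subgroupOfEquivOfLe hG.posUnipotent_le_group).toEquiv,
      (uGood_of_mem hD).card_posUnipotent, hq, pow_mul]

end Cfsg.Agent.CurtisRichen82.Chev
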